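import Cfsg.Agent.Lib.ToddCox.J1O.OrbD
set_option autoImplicit false
set_option maxRecDepth 100000
namespace Cfsg.Agent.Lib.ToddCox.J1O
open Cfsg.Agent.Lib.ToddCox.J1T in
theorem lv0_0 : allBits (fun k => bif Nat.blt k 266 then chkOrbPos Cfsg.Agent.Lib.ToddCox.J1T.tab L 0 0 266 266 (fun q => orbR (Nat.add 0 q)) k else true) 11 0 = true := by decide +kernel
theorem fx0 : ∀ w ∈ L.drop 5, tabW Cfsg.Agent.Lib.ToddCox.J1T.tab w 0 = 0 := by decide +kernel
theorem lv1_0 : allBits (fun k => bif Nat.blt k 132 then chkOrbPos Cfsg.Agent.Lib.ToddCox.J1T.tab L 5 1 132 266 (fun q => orbR (Nat.add 266 q)) k else true) 11 0 = true := by decide +kernel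
theorem fx1 : ∀ w ∈ L.drop 9, tabW Cfsg.Agent.Lib.ToddCox.J1T.tab w 1 = 1 := by decide +kernel
theorem lv2_0 : allBits (fun k => bif Nat.blt k 5 then chkOrbPos Cfsg.Agent.Lib.ToddCox.J1T.tab L 9 2 5 266 (fun q => orbR (Nat.add 398 q)) k else true) 11 0 = true := by decide +kernel
theorem fx2 : ∀ w ∈ L.drop 10, tabW Cfsg.Agent.Lib.ToddCox.J1T.tab w 2 = 2 := by decide +kernel
end Cfsg.Agent.Lib.ToddCox.J1O
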